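import Groth.Agent.NeronHDLib.NormalExtend
import Groth.Agent.NeronHDLib.IntClosureNormal
import Groth.Agent.H23.FFDescent
import Mathlib.RingTheory.Localization.Integral
import Mathlib.RingTheory.DedekindDomain.IntegralClosure

/-! # Tools for Néron models of finite étale schemes -/

set_option autoImplicit false
set_option backward.isDefEq.respectTransparency false
set_option backward.isDefEq.respectTransparency.types false
set_option linter.style.haveILetI false

universe u

open CategoryTheory CategoryTheory.Limits AlgebraicGeometry
open scoped nonZeroDivisors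

namespace Groth.Agent.NeronEtale

/-- The integral closure of a Dedekind domain in a finite étale algebra over its fraction field is
finite and is a model of that algebra. -/
theorem integralClosure_model (R K B : Type u) [CommRing R] [IsDedekindDomain R] [Field K]
    [Algebra R K] [IsFractionRing R K] [CommRing B] [Algebra K B] [Algebra R B] [IsScalarTower R K B]
    [Module.Finite K B] [Algebra.Etale K B] :
    Module.Finite R (integralClosure R B) ∧
      IsLocalization (Algebra.algebraMapSubmonoid (integralClosure R B) R⁰) B := by
  refine ⟨?_, ⟨?_, fun z => ?_, fun {x y} h => ⟨1, ?_⟩⟩⟩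
  · obtain ⟨I, _, L, _, _, ε, hsep⟩ :=
      (Algebra.FormallyEtale.iff_exists_algEquiv_prod (K := K) (A := B)).1 inferInstance
    have : ∀ i, Module.Finite K (L i) := fun i =>
      Module.Finite.of_surjective ((Pi.evalAlgHom K L i).comp ε.toAlgHom).toLinearMap
        ((Function.surjective_eval i).comp ε.surjective)
    let _ : ∀ i, Algebra R (L i) := fun i => ((algebraMap K (L i)).comp (algebraMap R K)).toAlgebra
    have : ∀ i, IsScalarTower R K (L i) := fun i => IsScalarTower.of_algebraMap_eq fun _ => rfl
    have : ∀ i, Module.Finite R (integralClosure R (L i)) := fun i => by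
      have := hsep i
      exact IsIntegralClosure.finite R K (L i) (integralClosure R (L i))
    let j : ∀ i, B →ₐ[R] L i := fun i =>
      ((Pi.evalAlgHom K L i).comp ε.toAlgHom).restrictScalars R
    let Φ : integralClosure R B →ₗ[R] ∀ i, integralClosure R (L i) :=
      LinearMap.pi fun i => (((j i).comp (integralClosure R B).val).codRestrict (integralClosure R (L i))
        fun c => c.2.map (j i)).toLinearMap
    refine Module.Finite.of_injective Φ fun a b h => Subtype.ext (ε.injective (funext fun i => ?_))
    exact congrArg Subtype.val (congrFun h i)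
  · rintro ⟨_, x, hx, rfl⟩
    rw [Subtype.coe_mk, ← IsScalarTower.algebraMap_apply R (integralClosure R B) B,
      IsScalarTower.algebraMap_apply R K B]
    exact (IsLocalization.map_units K (⟨x, hx⟩ : R⁰)).map _
  · obtain ⟨m, hm⟩ := IsIntegral.exists_multiple_integral_of_isLocalization R⁰ (Rₘ := K) z
      (IsIntegral.of_finite K z)
    refine ⟨(⟨m • z, hm⟩, ⟨algebraMap R _ m, m, m.2, rfl⟩), ?_⟩
    show z * algebraMap R B m = m • z
    rw [Submonoid.smul_def, Algebra.smul_def, mul_comm]
  · simpa using Subtype.ext h

/-- The generic fibre lies in the smooth locus as soon as it is smooth. -/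
theorem range_subset_smoothLocus_of_smooth_fibre {T S S' P : Scheme.{u}} (π : T ⟶ S)
    [LocallyOfFinitePresentation π] (g : S' ⟶ S) [Flat g] [IsPreimmersion g] (j : P ⟶ T) (s : P ⟶ S')
    [Smooth s] (h : IsPullback j s π g) : Set.range j ⊆ (π.smoothLocus : Set T) := by
  rintro _ ⟨q, rfl⟩
  haveI : Flat j := MorphismProperty.of_isPullback h.flip inferInstance
  haveI : IsPreimmersion j := MorphismProperty.of_isPullback h.flip inferInstance
  haveI := H23.FFDescent.isIso_stalkMap_of_flat_of_isPreimmersion j q
  haveI := H23.FFDescent.isIso_stalkMap_of_flat_of_isPreimmersion g (s q)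
  have hsm : (s.stalkMap q).hom.FormallySmooth := by
    rw [← Scheme.Hom.mem_smoothLocus, Scheme.Hom.smoothLocus_eq_top]
    trivial
  have h2 : ((s ≫ g).stalkMap q).hom.FormallySmooth := by
    rw [Scheme.Hom.stalkMap_comp, CommRingCat.hom_comp]
    exact (RingHom.FormallySmooth.respectsIso.cancel_left_isIso (g.stalkMap (s q)) _).2 hsm
  rw [SetLike.mem_coe, Scheme.Hom.mem_smoothLocus,
    ← RingHom.FormallySmooth.respectsIso.cancel_right_isIso _ (j.stalkMap q)]
  rw [Scheme.Hom.stalkMap_congr_hom (s ≫ g) (j ≫ π) h.w.symm q, CommRingCat.hom_comp,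
    Scheme.Hom.stalkMap_comp] at h2
  have h3 := (RingHom.FormallySmooth.respectsIso.cancel_left_isIso
    (S.presheaf.stalkCongr (Inseparable.of_eq (congrArg (fun m => m.base q) h.w.symm))).hom
    (π.stalkMap (j q) ≫ j.stalkMap q)).1 (by rw [CommRingCat.hom_comp]; exact h2)
  exact h3

end Groth.Agent.NeronEtale
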